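import Groth.Prelude.Def_AlgSt5
import Groth.Prelude.Def_AlgSt2
import Groth.Prelude.Def_AlgGrp
import Groth.Agent.Lib.FibCat.Basic
import Groth.Agent.Lib.FibCat.Fp

/-!
# Morphisms out of trivial torsors in a quotient category
-/

set_option backward.isDefEq.respectTransparency false
set_option backward.isDefEq.respectTransparency.types false
set_option autoImplicit false

universe u

open CategoryTheory CategoryTheory.Limits AlgebraicGeometry MonoidalCategory CartesianMonoidalCategory MonObj Opposite CategoryTheory.Functor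

namespace GrothLib.QuotSt

variable {S : Scheme.{u}} {G : Over S} [GrpObj G] {X : Over S}

theorem lift_one_act {P : Over S} (a : AlgGrp.Action G P) {T : Over S} (x : T ⟶ P) : lift 1 x ≫ a.act = x := by
  have h : lift (1 : T ⟶ G) x = x ≫ (λ_ P).inv ≫ (η[G] ▷ P) := by
    apply CartesianMonoidalCategory.hom_ext
    · simp [Hom.one_def]
    · simp
  rw [h, Category.assoc, Category.assoc, a.one_act, Iso.inv_hom_id, Category.comp_id]

theorem lift_mul_act {P : Over S} (a : AlgGrp.Action G P) {T : Over S} (g h : T ⟶ G) (x : T ⟶ P) :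
    lift g (lift h x ≫ a.act) ≫ a.act = lift (g * h) x ≫ a.act := by
  have hμ : lift (g * h) x = lift (lift g h) x ≫ (μ[G] ▷ P) := by
    apply CartesianMonoidalCategory.hom_ext
    · simp [Hom.mul_def]
    · simp
  have hw : lift g (lift h x ≫ a.act) = lift (lift g h) x ≫ (α_ G G P).hom ≫ (G ◁ a.act) := by
    apply CartesianMonoidalCategory.hom_ext
    · simp
    · simp only [lift_snd, Category.assoc, whiskerLeft_snd]
      rw [← Category.assoc (lift (lift g h) x), ← Category.assoc]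
      congr 1
      apply CartesianMonoidalCategory.hom_ext <;> simp
  rw [hw, hμ, Category.assoc, Category.assoc, Category.assoc, ← a.mul_act]

variable {K : Precoverage Scheme.{u}} [K.HasIsos] {aX : AlgGrp.Action G X}

/-- The unit section of the trivial torsor. -/
noncomputable def unitSec (T : Over S) : T ⟶ G ⊗ T := lift 1 (𝟙 T)

theorem unitSec_whiskerLeft_act {P : Over S} (a : AlgGrp.Action G P) {T : Over S} (x : T ⟶ P) :
    unitSec T ≫ (G ◁ x) ≫ a.act = x := by
  rw [← Category.assoc, show unitSec T ≫ (G ◁ x) = lift 1 x by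
    apply CartesianMonoidalCategory.hom_ext <;> simp [unitSec]]
  exact lift_one_act a x

theorem eq_lift_of_comp_snd {T T' : Over S} (p : T ⟶ G ⊗ T') {f : T ⟶ T'} (e : p ≫ snd G T' = f) :
    p = lift (p ≫ fst G T') f := by
  apply CartesianMonoidalCategory.hom_ext <;> simp [e]

theorem whiskerLeft_unitSec_leftMul (T : Over S) : (G ◁ unitSec T) ≫ (AlgSt.leftMul G T).act = 𝟙 (G ⊗ T) := by
  apply CartesianMonoidalCategory.hom_ext <;>
    simp [AlgSt.leftMul, unitSec, comp_mul, comp_lift, Category.assoc]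

theorem whiskerLeft_act {P : Over S} (a : AlgGrp.Action G P) {T : Over S} (p : T ⟶ P) :
    (AlgSt.leftMul G T).act ≫ (G ◁ p) ≫ a.act = (G ◁ ((G ◁ p) ≫ a.act)) ≫ a.act := by
  have h1 : (AlgSt.leftMul G T).act ≫ (G ◁ p) =
      lift (fst G (G ⊗ T) * (snd G (G ⊗ T) ≫ fst G T)) (snd G (G ⊗ T) ≫ snd G T ≫ p) := by
    apply CartesianMonoidalCategory.hom_ext <;> simp [AlgSt.leftMul]
  have h2 : G ◁ ((G ◁ p) ≫ a.act) =
      lift (fst G (G ⊗ T)) (lift (snd G (G ⊗ T) ≫ fst G T) (snd G (G ⊗ T) ≫ snd G T ≫ p) ≫ a.act) := by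
    apply CartesianMonoidalCategory.hom_ext
    · simp
    · simp only [whiskerLeft_snd, lift_snd, ← Category.assoc]
      congr 1
      apply CartesianMonoidalCategory.hom_ext <;> simp
  rw [reassoc_of% h1, h2, lift_mul_act]

variable (a : (AlgSt.ofSch X).obj) (A : AlgSt.QuotObj K G aX)

/-- The morphism out of a trivial torsor determined by a point of the torsor. -/
noncomputable def homOfPoint (p : a.base ⟶ A.P) (hφ : p ≫ A.φ = a.sec.down) :
    (AlgSt.quotMap K G aX).obj a ⟶ A where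
  base := p ≫ A.π
  top := (G ◁ p) ≫ A.act.act
  eqv := whiskerLeft_act A.act p
  cart := (AlgSt.isPullback_whiskerLeft p).paste_horiz A.cart
  wφ := by
    rw [Category.assoc, A.eqv, ← MonoidalCategory.whiskerLeft_comp_assoc, hφ]
    rfl

variable {a A}

theorem homOfPoint_base (p : a.base ⟶ A.P) (hφ : p ≫ A.φ = a.sec.down) : (homOfPoint a A p hφ).base = p ≫ A.π := rfl

/-- The point of a morphism out of a trivial torsor. -/
noncomputable def point (h : (AlgSt.quotMap K G aX).obj a ⟶ A) : a.base ⟶ A.P := unitSec a.base ≫ h.top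

theorem point_π (h : (AlgSt.quotMap K G aX).obj a ⟶ A) : point h ≫ A.π = h.base := by
  rw [point, Category.assoc, h.cart.w]
  change lift 1 (𝟙 a.base) ≫ snd G a.base ≫ _ = _
  rw [lift_snd_assoc]
  exact Category.id_comp _

theorem point_φ (h : (AlgSt.quotMap K G aX).obj a ⟶ A) : point h ≫ A.φ = a.sec.down := by
  rw [point, Category.assoc, h.wφ]
  exact unitSec_whiskerLeft_act aX (a.sec.down : a.base ⟶ X)

theorem top_eq (h : (AlgSt.quotMap K G aX).obj a ⟶ A) : h.top = (G ◁ point h) ≫ A.act.act := by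
  have e : h.top = (G ◁ unitSec a.base) ≫ (AlgSt.leftMul G a.base).act ≫ h.top := by
    rw [reassoc_of% (whiskerLeft_unitSec_leftMul (G := G) a.base)]
  rw [point, MonoidalCategory.whiskerLeft_comp, Category.assoc, ← h.eqv]
  exact e

theorem hom_ext_point {h h' : (AlgSt.quotMap K G aX).obj a ⟶ A} (e : point h = point h') : h = h' := by
  refine AlgSt.QuotObj.hom_ext ?_ ?_
  · rw [← point_π h, ← point_π h', e]
  · rw [top_eq h, top_eq h', e]

variable {b : (AlgSt.ofSch X).obj}

theorem top_lift_act (g : a.base ⟶ G) (f : a.base ⟶ b.base) :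
    (G ◁ lift g f) ≫ (AlgSt.leftMul G b.base).act = lift (fst G a.base * (snd G a.base ≫ g)) (snd G a.base ≫ f) := by
  apply CartesianMonoidalCategory.hom_ext <;> simp [AlgSt.leftMul, comp_mul]

/-- A morphism of trivial torsors from a translation. -/
noncomputable def homOfTrans (g : a.base ⟶ G) (f : a.base ⟶ b.base) (hg : lift g (f ≫ b.sec.down) ≫ aX.act = a.sec.down) :
    (AlgSt.quotMap K G aX).obj a ⟶ (AlgSt.quotMap K G aX).obj b :=
  homOfPoint a ((AlgSt.quotMap K G aX).obj b) (lift g f) (by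
    change lift g f ≫ (G ◁ b.sec.down) ≫ aX.act = _
    rw [← Category.assoc, lift_whiskerLeft, hg])

theorem exists_trans (h : (AlgSt.quotMap K G aX).obj a ⟶ (AlgSt.quotMap K G aX).obj b) :
    ∃ g : a.base ⟶ G, point h = lift g h.base ∧ lift g (h.base ≫ b.sec.down) ≫ aX.act = a.sec.down := by
  have e : point h ≫ snd G b.base = h.base := point_π h
  have hp : point h = lift (point h ≫ fst G b.base) h.base := eq_lift_of_comp_snd _ e
  refine ⟨point h ≫ fst G b.base, hp, ?_⟩
  have eφ : point h ≫ (G ◁ b.sec.down) ≫ aX.act = a.sec.down := point_φ h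
  rw [hp, ← Category.assoc, lift_whiskerLeft] at eφ
  exact eφ

theorem point_homOfPoint (p : a.base ⟶ A.P) (hφ : p ≫ A.φ = a.sec.down) : point (homOfPoint a A p hφ) = p := by
  exact unitSec_whiskerLeft_act A.act p

theorem point_comp_map {b' : (AlgSt.ofSch X).obj} (h : (AlgSt.quotMap K G aX).obj a ⟶ (AlgSt.quotMap K G aX).obj b)
    (ψ : b ⟶ b') : point (h ≫ (AlgSt.quotMap K G aX).map ψ) = point h ≫ (G ◁ ψ.hom) := (Category.assoc _ _ _).symm

theorem point_map_comp (ψ : a ⟶ b) {A : AlgSt.QuotObj K G aX} (h : (AlgSt.quotMap K G aX).obj b ⟶ A) :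
    point ((AlgSt.quotMap K G aX).map ψ ≫ h) = ψ.hom ≫ point h := by
  change unitSec a.base ≫ (G ◁ ψ.hom) ≫ h.top = ψ.hom ≫ unitSec b.base ≫ h.top
  rw [← Category.assoc, ← Category.assoc]
  congr 1
  apply CartesianMonoidalCategory.hom_ext <;> simp [unitSec, comp_mul, Hom.one_def]

theorem square {a a' b b' : (AlgSt.ofSch X).obj} (f₁ : a ⟶ a') (f₂ : b ⟶ b')
    (h : (AlgSt.quotMap K G aX).obj a ⟶ (AlgSt.quotMap K G aX).obj b)
    (h' : (AlgSt.quotMap K G aX).obj a' ⟶ (AlgSt.quotMap K G aX).obj b')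
    (e : f₁.hom ≫ point h' = point h ≫ (G ◁ f₂.hom)) :
    (AlgSt.quotMap K G aX).map f₁ ≫ h' = h ≫ (AlgSt.quotMap K G aX).map f₂ :=
  hom_ext_point (by rw [point_map_comp, point_comp_map, e])

omit [K.HasIsos] in
theorem square_point {T : Over S} (g : T ⟶ G) (y : T ⟶ X) (u v : T ⟶ T) (q q' : T ⟶ G ⊗ T)
    (hu : u = 𝟙 T) (hv : v = 𝟙 T) (hq : q = lift g (𝟙 T)) (hq' : q' = lift (lift g y ≫ fst G X) (𝟙 T)) :
    u ≫ q = q' ≫ (G ◁ v) := by
  subst hu hv hq hq'
  simp

omit [K.HasIsos] in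
theorem sec_eq_of {T T' : Over S} (f : T ⟶ T') (z : T ⟶ G ⊗ X) (z' : T' ⟶ G ⊗ X)
    (h : f ≫ lift (z' ≫ fst G X) (𝟙 T') = lift (z ≫ fst G X) (𝟙 T) ≫ (G ◁ f))
    (e : f ≫ z' ≫ snd G X = z ≫ snd G X) : f ≫ z' = z := by
  refine CartesianMonoidalCategory.hom_ext _ _ ?_ ?_
  · have e1 := h =≫ fst G T'
    simpa using e1
  · simpa using e

end GrothLib.QuotSt
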