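import Groth.Agent.Lib.QuotSt.Triv

/-!
# The square of the action and the projection over the quotient category
-/

set_option backward.isDefEq.respectTransparency false
set_option backward.isDefEq.respectTransparency.types false
set_option autoImplicit false

universe u

open CategoryTheory CategoryTheory.Limits AlgebraicGeometry MonoidalCategory CartesianMonoidalCategory MonObj Opposite CategoryTheory.Functor

namespace GrothLib.QuotSt

open GrothLib.FibCat

variable {S : Scheme.{u}} {G : Over S} [GrpObj G] {X : Over S} (aX : AlgGrp.Action G X)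

/-- The functor induced by the action. -/
noncomputable abbrev actF : AlgSt.ofSch (G ⊗ X) ⥤ᵇ AlgSt.ofSch X := AlgSt.ofSpMap ((AlgSp.yon S).map aX.act)

/-- The functor induced by the projection. -/
noncomputable abbrev sndF : AlgSt.ofSch (G ⊗ X) ⥤ᵇ AlgSt.ofSch X := AlgSt.ofSpMap ((AlgSp.yon S).map (snd G X))

/-- The canonical functor. -/
noncomputable abbrev Q : AlgSt.ofSch X ⥤ᵇ AlgSt.QuotSt Scheme.fppfPrecoverage G aX :=
  AlgSt.quotMap Scheme.fppfPrecoverage G aX

variable {aX}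

theorem point_comp {a b c : (AlgSt.ofSch X).obj} (h : (Q aX).obj a ⟶ (Q aX).obj b) (h' : (Q aX).obj b ⟶ (Q aX).obj c) :
    point (h ≫ h') = point h ≫ (G ◁ point h') ≫ (AlgSt.leftMul G c.base).act := by
  change unitSec a.base ≫ h.top ≫ h'.top = (unitSec a.base ≫ h.top) ≫ _
  rw [top_eq h', Category.assoc]
  rfl

theorem point_id (a : (AlgSt.ofSch X).obj) : point (𝟙 ((Q aX).obj a)) = lift 1 (𝟙 a.base) := Category.comp_id _

variable (aX)

/-- The translation from the acted point to the point. -/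
noncomputable def shear (w : (AlgSt.ofSch (G ⊗ X)).obj) : (Q aX).obj ((actF aX).obj w) ⟶ (Q aX).obj (sndF.obj w) :=
  homOfTrans (a := (actF aX).obj w) (b := sndF.obj w) (w.sec.down ≫ fst G X) (𝟙 w.base) (by
    change lift (w.sec.down ≫ fst G X) (𝟙 _ ≫ w.sec.down ≫ snd G X) ≫ aX.act = w.sec.down ≫ aX.act
    rw [Category.id_comp, ← comp_lift, lift_fst_snd]
    simp)

theorem point_shear (w : (AlgSt.ofSch (G ⊗ X)).obj) : point (shear aX w) = lift (w.sec.down ≫ fst G X) (𝟙 w.base) := by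
  unfold shear homOfTrans
  exact point_homOfPoint _ _

theorem shear_lift (w : (AlgSt.ofSch (G ⊗ X)).obj) :
    (AlgSt.QuotSt Scheme.fppfPrecoverage G aX).p.IsHomLift (𝟙 w.base) (shear aX w) :=
  IsHomLift.of_fac' _ _ _ rfl rfl (by
    change lift _ (𝟙 w.base) ≫ snd G w.base = _
    simp; rfl)

/-- The inverse translation. -/
noncomputable def unshear (w : (AlgSt.ofSch (G ⊗ X)).obj) : (Q aX).obj (sndF.obj w) ⟶ (Q aX).obj ((actF aX).obj w) :=
  homOfTrans (a := sndF.obj w) (b := (actF aX).obj w) (w.sec.down ≫ fst G X)⁻¹ (𝟙 w.base) (by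
    change lift (w.sec.down ≫ fst G X)⁻¹ (𝟙 _ ≫ w.sec.down ≫ aX.act) ≫ aX.act = w.sec.down ≫ snd G X
    rw [Category.id_comp, show w.sec.down ≫ aX.act = lift (w.sec.down ≫ fst G X) (w.sec.down ≫ snd G X) ≫ aX.act by
      rw [← comp_lift, lift_fst_snd]; simp, lift_mul_act, inv_mul_cancel]
    exact lift_one_act aX _)

theorem point_unshear (w : (AlgSt.ofSch (G ⊗ X)).obj) : point (unshear aX w) = lift (w.sec.down ≫ fst G X)⁻¹ (𝟙 w.base) := by
  unfold unshear homOfTrans
  exact point_homOfPoint _ _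

omit aX in
theorem comp_leftMul {T : Over S} (g g' : T ⟶ G) :
    lift g (𝟙 T) ≫ (G ◁ lift g' (𝟙 T)) ≫ (AlgSt.leftMul G T).act = lift (g * g') (𝟙 T) := by
  apply CartesianMonoidalCategory.hom_ext <;> simp [AlgSt.leftMul, comp_mul]

/-- The translation as an isomorphism. -/
noncomputable def shearIso (w : (AlgSt.ofSch (G ⊗ X)).obj) : (Q aX).obj ((actF aX).obj w) ≅ (Q aX).obj (sndF.obj w) where
  hom := shear aX w
  inv := unshear aX w
  hom_inv_id := hom_ext_point (by
    rw [point_comp, point_shear, point_unshear, point_id]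
    exact (comp_leftMul _ _).trans (by rw [mul_inv_cancel]))
  inv_hom_id := hom_ext_point (by
    rw [point_comp, point_shear, point_unshear, point_id]
    exact (comp_leftMul _ _).trans (by rw [inv_mul_cancel]))

omit aX in
theorem shear_nat_aux {T T' : Over S} (f : T ⟶ T') (z : T ⟶ G ⊗ X) (z' : T' ⟶ G ⊗ X) (h : f ≫ z' = z) :
    f ≫ lift (z' ≫ fst G X) (𝟙 T') = lift (z ≫ fst G X) (𝟙 T) ≫ (G ◁ f) := by
  subst h
  apply CartesianMonoidalCategory.hom_ext <;> simp

/-- The commutation isomorphism of the square. -/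
noncomputable def shearNatIso : BasedFunctor.comp (actF aX) (Q aX) ≅ BasedFunctor.comp sndF (Q aX) :=
  natIsoOfComponents (fun w => shearIso aX w) (fun w => shear_lift aX w) (fun {w w'} f => by
    change (Q aX).map ((actF aX).map f) ≫ shear aX w' = shear aX w ≫ (Q aX).map (sndF.map f)
    refine square _ _ _ _ ?_
    rw [point_shear, point_shear]
    exact shear_nat_aux f.hom _ _ (congrArg ULift.down f.map_sec))

theorem full_fpLift : (_root_.FibCat.fpLift (actF aX) sndF (shearNatIso aX)).toFunctor.Full := by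
  refine ⟨fun {w w'} φ => ?_⟩
  let f1 : (actF aX).obj w ⟶ (actF aX).obj w' := φ.hom.fst
  let f2 : sndF.obj w ⟶ sndF.obj w' := φ.hom.snd
  have hl : (AlgSt.ofSch X).p.IsHomLift f1.hom f2 := _root_.FibCat.fp_isHomLift_snd (F := Q aX) (G := Q aX) φ
  have hbase : f2.hom = f1.hom :=
    (IsHomLift.eq_of_isHomLift (AlgSt.ofSch X).p (a := sndF.obj w) (b := sndF.obj w') f1.hom f2).symm
  have hw : point ((Q aX).map f1 ≫ shear aX w') = point (shear aX w ≫ (Q aX).map f2) := congrArg point φ.hom.w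
  rw [point_map_comp, point_comp_map, point_shear, point_shear, hbase] at hw
  have e2 : f2.hom ≫ w'.sec.down ≫ snd G X = w.sec.down ≫ snd G X := congrArg ULift.down f2.map_sec
  rw [hbase] at e2
  have hsec : f1.hom ≫ w'.sec.down = w.sec.down :=
    sec_eq_of (T := w.base) (T' := w'.base) f1.hom w.sec.down w'.sec.down hw e2
  exact ⟨⟨f1.hom, congrArg ULift.up hsec⟩, Fp.hom_ext rfl (Stk.EltObj.hom_ext hbase.symm)⟩

theorem faithful_fpLift : (_root_.FibCat.fpLift (actF aX) sndF (shearNatIso aX)).toFunctor.Faithful :=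
  ⟨fun {w w'} {f f'} h => Stk.EltObj.hom_ext (congrArg Stk.EltObj.Hom.hom (congrArg (fun t => t.hom.fst) h) : _)⟩

/-- Two objects of a discrete fibre with the same section. -/
def eltIso {C : Type*} [Category C] {P : Cᵒᵖ ⥤ Type*} {T : C} (s t : P.obj (op T)) (h : t = s) :
    (⟨T, s⟩ : Stk.EltObj P) ≅ ⟨T, t⟩ where
  hom := ⟨𝟙 T, by simp [h]⟩
  inv := ⟨𝟙 T, by simp [h]⟩
  hom_inv_id := Stk.EltObj.hom_ext (Category.id_comp _)
  inv_hom_id := Stk.EltObj.hom_ext (Category.id_comp _)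

omit aX in
theorem eltIso_hom {C : Type*} [Category C] {P : Cᵒᵖ ⥤ Type*} {T : C} (s t : P.obj (op T)) (h : t = s) :
    (eltIso s t h).hom.hom = 𝟙 T := rfl

omit aX in
theorem isHomLift_eltIso {C : Type*} [Category C] {P : Cᵒᵖ ⥤ Type*} {T : C} (s t : P.obj (op T)) (h : t = s) :
    (Stk.EltObj.forget P).IsHomLift (𝟙 T) (eltIso s t h).hom :=
  IsHomLift.map (Stk.EltObj.forget P) (eltIso s t h).hom

theorem exists_shear_preimage (a b : (AlgSt.ofSch X).obj) (i : (Q aX).obj a ⟶ (Q aX).obj b)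
    (hi : (AlgSt.QuotSt Scheme.fppfPrecoverage G aX).p.IsHomLift (𝟙 a.base) i) :
    ∃ (w : (AlgSt.ofSch (G ⊗ X)).obj) (f₁ : (actF aX).obj w ≅ a) (f₂ : sndF.obj w ≅ b),
      (AlgSt.ofSch X).p.IsHomLift (𝟙 a.base) f₁.hom ∧ (Q aX).map f₁.hom ≫ i = shear aX w ≫ (Q aX).map f₂.hom := by
  have hd := IsHomLift.codomain_eq (AlgSt.QuotSt Scheme.fppfPrecoverage G aX).p (𝟙 a.base) i
  change b.base = a.base at hd
  obtain ⟨T, x⟩ := a
  obtain ⟨T', y⟩ := b
  subst hd
  obtain ⟨g, hp, hg⟩ := exists_trans i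
  have hbase : i.base = 𝟙 T' :=
    (IsHomLift.eq_of_isHomLift (AlgSt.QuotSt Scheme.fppfPrecoverage G aX).p (a := (Q aX).obj ⟨T', x⟩) (b := (Q aX).obj ⟨T', y⟩)
      (𝟙 T') i).symm
  rw [hbase] at hp hg
  have hg' : lift g y.down ≫ aX.act = x.down := by simpa using hg
  let w : (AlgSt.ofSch (G ⊗ X)).obj := ⟨T', ⟨lift g y.down⟩⟩
  let f₁ : (actF aX).obj w ≅ (⟨T', x⟩ : (AlgSt.ofSch X).obj) := eltIso _ _ (congrArg ULift.up hg').symm
  let f₂ : sndF.obj w ≅ (⟨T', y⟩ : (AlgSt.ofSch X).obj) := eltIso _ _ (congrArg ULift.up (lift_snd g y.down)).symm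
  have h₁ : f₁.hom.hom = 𝟙 T' := eltIso_hom _ _ _
  have h₂ : f₂.hom.hom = 𝟙 T' := eltIso_hom _ _ _
  refine ⟨w, f₁, f₂, isHomLift_eltIso _ _ _, square f₁.hom f₂.hom (shear aX w) i ?_⟩
  rw [point_shear]
  exact square_point g y.down f₁.hom.hom f₂.hom.hom _ _ h₁ h₂ hp rfl

theorem isTwoCartOver_shear :
    _root_.FibCat.IsTwoCartOver (actF aX) sndF (shearNatIso aX) := by
  refine FFEssSurjOver.isEquivOver ⟨full_fpLift aX, faithful_fpLift aX, fun o => ?_⟩
  obtain ⟨w, f₁, f₂, hl, hsq⟩ := exists_shear_preimage aX o.obj.fst o.obj.snd o.obj.iso.hom (Fp.iso_lift o)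
  exact ⟨w, Fp.isoMk f₁ f₂ hsq, (Fp.isHomLift_iff _ _).mpr hl⟩

end GrothLib.QuotSt
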