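import Groth.Prelude.Def_ChGrp
import Groth.Agent.Lib.QuotSt.Triv
import Groth.Agent.Lib.TorsorDesc.Basic
import Groth.Prelude.Def_QuotSh

/-!
# Points form of balanced products
-/

set_option backward.isDefEq.respectTransparency false
set_option backward.isDefEq.respectTransparency.types false
set_option autoImplicit false

universe u

open CategoryTheory CategoryTheory.Limits AlgebraicGeometry MonoidalCategory CartesianMonoidalCategory MonObj

noncomputable section

namespace GrothLib.BalQuot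

variable {S : Scheme.{u}}

section General

variable {G P : Over S} [GrpObj G]

/-- The action on points. -/
abbrev act {T : Over S} (a : AlgGrp.Action G P) (g : T ⟶ G) (x : T ⟶ P) : T ⟶ P := lift g x ≫ a.act

theorem one_act (a : AlgGrp.Action G P) {T : Over S} (x : T ⟶ P) : act a 1 x = x := a.lift_one_act x

theorem mul_act (a : AlgGrp.Action G P) {T : Over S} (g h : T ⟶ G) (x : T ⟶ P) :
    act a (g * h) x = act a g (act a h x) := a.lift_mul_act g h x

theorem comp_act (a : AlgGrp.Action G P) {W T : Over S} (w : W ⟶ T) (g : T ⟶ G) (x : T ⟶ P) :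
    w ≫ act a g x = act a (w ≫ g) (w ≫ x) := by
  simp only [act, ← Category.assoc, comp_lift]

theorem act_eqv {P' : Over S} (a : AlgGrp.Action G P) (a' : AlgGrp.Action G P') {t : P ⟶ P'}
    (h : a.act ≫ t = (G ◁ t) ≫ a'.act) {T : Over S} (g : T ⟶ G) (x : T ⟶ P) :
    act a g x ≫ t = act a' g (x ≫ t) := by
  simp only [act, Category.assoc, h, lift_whiskerLeft_assoc]

theorem act_inv_act (a : AlgGrp.Action G P) {T : Over S} (g : T ⟶ G) (x : T ⟶ P) :
    act a g⁻¹ (act a g x) = x := by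
  rw [← mul_act, inv_mul_cancel, one_act]

theorem act_act_inv (a : AlgGrp.Action G P) {T : Over S} (g : T ⟶ G) (x : T ⟶ P) :
    act a g (act a g⁻¹ x) = x := by
  rw [← mul_act, mul_inv_cancel, one_act]

theorem exists_pair {A B T : Over S} (x : T ⟶ A ⊗ B) : ∃ (a : T ⟶ A) (b : T ⟶ B), x = lift a b :=
  ⟨x ≫ fst A B, x ≫ snd A B, by rw [← comp_lift, lift_fst_snd, Category.comp_id]⟩

/-- A square is cartesian when it is so on points. -/
theorem isPullback_of_points {P₁ X Y Z : Over S} {p : P₁ ⟶ X} {q : P₁ ⟶ Y} {f : X ⟶ Z} {g : Y ⟶ Z}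
    (w : p ≫ f = q ≫ g)
    (h : ∀ (T : Over S) (x : T ⟶ X) (y : T ⟶ Y), x ≫ f = y ≫ g → ∃! k : T ⟶ P₁, k ≫ p = x ∧ k ≫ q = y) :
    IsPullback p q f g := by
  choose k hk hu using fun s : PullbackCone f g => h s.pt s.fst s.snd s.condition
  exact ⟨⟨w⟩, ⟨PullbackCone.IsLimit.mk _ k (fun s => (hk s).1) (fun s => (hk s).2)
    fun s m h₁ h₂ => hu s m ⟨h₁, h₂⟩⟩⟩

variable {T₀ : Over S} {a : AlgGrp.Action G P} {π : P ⟶ T₀}

theorem act_π (hc : IsPullback a.act (snd G P) π π) {T : Over S} (g : T ⟶ G) (x : T ⟶ P) :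
    act a g x ≫ π = x ≫ π := by
  simp only [act, Category.assoc, hc.w, lift_snd_assoc]

theorem existsUnique_trans (hc : IsPullback a.act (snd G P) π π) {T : Over S} (x y : T ⟶ P)
    (h : y ≫ π = x ≫ π) : ∃! g : T ⟶ G, act a g x = y := by
  refine ⟨hc.lift y x h ≫ fst G P, ?_, fun g hg => ?_⟩
  · have e : lift (hc.lift y x h ≫ fst G P) x = hc.lift y x h := by
      conv_lhs => arg 2; rw [← hc.lift_snd y x h]
      rw [← comp_lift, lift_fst_snd, Category.comp_id]
    simp only [act, e, hc.lift_fst]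
  · have e : lift g x = hc.lift y x h :=
      hc.hom_ext (by rw [hc.lift_fst]; exact hg) (by rw [lift_snd, hc.lift_snd])
    rw [← e, lift_fst]

theorem trans_unique (hc : IsPullback a.act (snd G P) π π) {T : Over S} {g g' : T ⟶ G} {x : T ⟶ P}
    (h : act a g x = act a g' x) : g = g' :=
  (existsUnique_trans hc x (act a g' x) (act_π hc g' x)).unique h rfl

/-- The sieve of morphisms along which `π` has sections. -/
def secSieve {T A : Over S} (π : A ⟶ T) : Sieve T where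
  arrows W g := ∃ s : W ⟶ A, s ≫ π = g
  downward_closed := by
    rintro W V g ⟨s, hs⟩ h
    exact ⟨h ≫ s, by rw [Category.assoc, hs]⟩

theorem secSieve_mem_iff {T A : Over S} (π : A ⟶ T) :
    secSieve π ∈ QuotSh.J Scheme.fppfPrecoverage S T ↔
      NonAbH1.IsLocallyTrivialFor Scheme.fppfPrecoverage (Over.mk π.left : Over T.left) := by
  have key : ∀ ⦃Y : Scheme.{u}⦄ (f : Y ⟶ T.left),
      (Sieve.overEquiv T (secSieve π)).arrows f ↔ ∃ s : Y ⟶ A.left, s ≫ π.left = f := by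
    intro Y f
    rw [Sieve.overEquiv_iff]
    refine ⟨fun ⟨s, hs⟩ => ⟨s.left, congrArg CommaMorphism.left hs⟩, fun ⟨s, hs⟩ => ?_⟩
    refine ⟨Over.homMk s ?_, Over.OverMorphism.ext hs⟩
    change s ≫ A.hom = f ≫ T.hom
    rw [← Over.w π, reassoc_of% hs]
  constructor
  · intro hJ
    obtain ⟨R, hR, hle⟩ := Precoverage.mem_toGrothendieck_iff_of_isStableUnderComposition.1
      (show Sieve.overEquiv T (secSieve π) ∈ Scheme.fppfTopology T.left from hJ)
    exact ⟨R, hR, fun T' f hf => (key f).1 (hle _ _ hf)⟩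
  · rintro ⟨R, hR, h⟩
    change Sieve.overEquiv T (secSieve π) ∈ Scheme.fppfTopology T.left
    refine GrothendieckTopology.superset_covering _ ?_ (Precoverage.generate_mem_toGrothendieck hR)
    rw [Sieve.generate_le_iff]
    exact fun Y f hf => (key f).2 (h f hf)

theorem effectiveEpi_left {T A : Over S} (π : A ⟶ T)
    (h : NonAbH1.IsLocallyTrivialFor Scheme.fppfPrecoverage (Over.mk π.left : Over T.left)) :
    EffectiveEpi π.left :=
  TorsorDesc.effectiveEpi_of_localSections _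
    (TorsorDesc.isLocallyTrivialFor_mono Scheme.fppfPrecoverage_le_fpqcPrecoverage h)

end General

section Bal

variable {G H Z Y : Over S} [GrpObj G] [GrpObj H] {i : H ⟶ G} [IsMonHom i] {aZ : AlgGrp.Action H Z}
  {aY : AlgGrp.Action G Y} {j : G ⊗ Z ⟶ Y}

/-- The restriction of `j` to the unit of `G`. -/
def j₀ (j : G ⊗ Z ⟶ Y) : Z ⟶ Y := lift 1 (𝟙 Z) ≫ j

theorem comp_j₀ (j : G ⊗ Z ⟶ Y) {T : Over S} (z : T ⟶ Z) : z ≫ j₀ j = lift 1 z ≫ j := by
  rw [j₀, ← Category.assoc, comp_lift, MonObj.comp_one, Category.comp_id]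

variable (hY : ChGrp.IsBalProd Scheme.fppfPrecoverage i aZ aY j)

include hY

theorem pair_j {T : Over S} (g : T ⟶ G) (z : T ⟶ Z) : lift g z ≫ j = act aY g (z ≫ j₀ j) := by
  have e := act_eqv _ aY hY.1 g (lift (1 : T ⟶ G) z)
  rw [comp_j₀, ← e]
  simp only [act, AlgGrp.Action.lift_prod_act, AlgGrp.Action.lift_trivial_act]
  change _ = lift (lift g 1 ≫ μ[G]) z ≫ j
  rw [← Hom.mul_def, _root_.mul_one]

theorem pair_j_twist {T : Over S} (h : T ⟶ H) (g : T ⟶ G) (z : T ⟶ Z) :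
    lift (g * (h ≫ i)⁻¹) (act aZ h z) ≫ j = lift g z ≫ j := by
  have e := congrArg (lift h (lift g z) ≫ ·) hY.2.1.w
  simp only [ChGrp.lift_twist_act_assoc, lift_snd_assoc] at e
  exact e

theorem existsUnique_pair {T : Over S} {g g' : T ⟶ G} {z z' : T ⟶ Z} (e : lift g' z' ≫ j = lift g z ≫ j) :
    ∃! h : T ⟶ H, g * (h ≫ i)⁻¹ = g' ∧ act aZ h z = z' := by
  obtain ⟨h, x, hx⟩ := exists_pair (hY.2.1.lift (lift g' z') (lift g z) e)
  have h2 : x = lift g z := by simpa [hx] using hY.2.1.lift_snd (lift g' z') (lift g z) e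
  subst h2
  have h1 : lift (g * (h ≫ i)⁻¹) (act aZ h z) = lift g' z' := by
    rw [← hY.2.1.lift_fst (lift g' z') (lift g z) e, hx, ChGrp.lift_twist_act]
  refine ⟨h, ⟨by simpa using congrArg (· ≫ fst G Z) h1, by simpa using congrArg (· ≫ snd G Z) h1⟩, ?_⟩
  rintro h' ⟨e1, e2⟩
  have e3 : lift h' (lift g z) = hY.2.1.lift (lift g' z') (lift g z) e :=
    hY.2.1.hom_ext (by rw [ChGrp.lift_twist_act, hY.2.1.lift_fst]; exact congrArg₂ lift e1 e2)
      (by rw [lift_snd, hY.2.1.lift_snd])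
  simpa using congrArg (· ≫ fst H (G ⊗ Z)) (e3.trans hx)

theorem act_j₀ {T : Over S} (h : T ⟶ H) (z : T ⟶ Z) : act aY (h ≫ i) (z ≫ j₀ j) = act aZ h z ≫ j₀ j := by
  rw [← pair_j hY, comp_j₀, ← pair_j_twist hY h (h ≫ i) z, mul_inv_cancel]

theorem existsUnique_pair_j₀ {T : Over S} {g : T ⟶ G} {z z' : T ⟶ Z} (e : z' ≫ j₀ j = act aY g (z ≫ j₀ j)) :
    ∃! h : T ⟶ H, h ≫ i = g ∧ act aZ h z = z' := by
  obtain ⟨h, ⟨h1, h2⟩, hu⟩ := existsUnique_pair hY (g := g) (g' := 1) (z := z) (z' := z')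
    (by rw [pair_j hY g z, ← e, comp_j₀])
  exact ⟨h, ⟨(mul_inv_eq_one.1 h1).symm, h2⟩,
    fun h' ⟨k1, k2⟩ => hu h' ⟨by rw [k1, mul_inv_cancel], k2⟩⟩

end Bal

end GrothLib.BalQuot
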