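import Groth.Agent.Lib.QuotSt.BalPoints
import Groth.Agent.Lib.SpQuot.Compare
import Groth.Agent.Lib.SpQuot.FibGrpd
import Groth.Agent.Lib.SpQuot.CompareAff
import Groth.Agent.Lib.Stk.LocEquiv
import Groth.Agent.S12836

/-!
# The quotient stack of a balanced product

`[(G ×^H Z)/G]` is `[Z/H]`.
-/

set_option backward.isDefEq.respectTransparency false
set_option backward.isDefEq.respectTransparency.types false
set_option autoImplicit false

universe u

open CategoryTheory CategoryTheory.Limits AlgebraicGeometry MonoidalCategory CartesianMonoidalCategory MonObj CategoryTheory.Functor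
open AlgSt

noncomputable section

namespace GrothLib.BalQuot

variable {S : Scheme.{u}} {G H Z Y : Over S} [GrpObj G] [GrpObj H] {i : H ⟶ G} [IsMonHom i]
  {aZ : AlgGrp.Action H Z} {aY : AlgGrp.Action G Y} {j : G ⊗ Z ⟶ Y}
  (hY : ChGrp.IsBalProd Scheme.fppfPrecoverage i aZ aY j)

variable (A : QuotObj Scheme.fppfPrecoverage G aY)

/-- The total space of the reduction to `H`. -/
abbrev redP (j : G ⊗ Z ⟶ Y) : Over S := pullback A.φ (j₀ j)

/-- The covering of a torsor by its reduction. -/
def coverMap (j : G ⊗ Z ⟶ Y) : G ⊗ redP A j ⟶ A.P := (G ◁ pullback.fst A.φ (j₀ j)) ≫ A.act.act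

theorem pair_coverMap {T : Over S} (g : T ⟶ G) (x : T ⟶ redP A j) :
    lift g x ≫ coverMap A j = act A.act g (x ≫ pullback.fst A.φ (j₀ j)) := by
  simp only [coverMap, act, lift_whiskerLeft_assoc]

theorem act_φ {T : Over S} (g : T ⟶ G) (p : T ⟶ A.P) : act A.act g p ≫ A.φ = act aY g (p ≫ A.φ) :=
  act_eqv A.act aY A.eqv g p

theorem red_cond {T : Over S} (x : T ⟶ redP A j) :
    (x ≫ pullback.fst A.φ (j₀ j)) ≫ A.φ = (x ≫ pullback.snd A.φ (j₀ j)) ≫ j₀ j := by
  rw [Category.assoc, pullback.condition, Category.assoc]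

include hY

theorem isPullback_coverMap : IsPullback (coverMap A j) (G ◁ pullback.snd A.φ (j₀ j)) A.φ j := by
  have w : coverMap A j ≫ A.φ = (G ◁ pullback.snd A.φ (j₀ j)) ≫ j := by
    apply AlgGrp.Action.hom_ext_lift₂
    intro T g x
    rw [← Category.assoc, pair_coverMap, act_φ, red_cond, lift_whiskerLeft_assoc, pair_j hY]
  refine isPullback_of_points w fun T p gz e => ?_
  obtain ⟨g, z, rfl⟩ := exists_pair gz
  rw [pair_j hY] at e
  have hc : act A.act g⁻¹ p ≫ A.φ = z ≫ j₀ j := by rw [act_φ, e, act_inv_act]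
  refine ⟨lift g (pullback.lift (act A.act g⁻¹ p) z hc), ⟨?_, ?_⟩, ?_⟩
  · rw [pair_coverMap, pullback.lift_fst, act_act_inv]
  · rw [lift_whiskerLeft, pullback.lift_snd]
  · rintro k ⟨k1, k2⟩
    obtain ⟨g', x, rfl⟩ := exists_pair k
    rw [lift_whiskerLeft] at k2
    obtain rfl : g' = g := by simpa using congrArg (· ≫ fst G Z) k2
    rw [pair_coverMap] at k1
    congr 1
    apply pullback.hom_ext
    · rw [pullback.lift_fst, ← k1, act_inv_act]
    · rw [pullback.lift_snd]
      simpa using congrArg (· ≫ snd G Z) k2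

theorem loc_coverMap :
    NonAbH1.IsLocallyTrivialFor Scheme.fppfPrecoverage (Over.mk (coverMap A j).left : Over A.P.left) :=
  TorsorDesc.isLocallyTrivialFor_of_isPullback _ ((isPullback_coverMap hY A).flip.map (Over.forget S)) hY.2.2

theorem effectiveEpi_coverMap : EffectiveEpi (coverMap A j).left := effectiveEpi_left _ (loc_coverMap hY A)

theorem effectiveEpi_whisker_coverMap : EffectiveEpi (G ◁ coverMap A j).left :=
  TorsorDesc.effectiveEpi_whiskerLeft G (coverMap A j)
    (TorsorDesc.isLocallyTrivialFor_mono Scheme.fppfPrecoverage_le_fpqcPrecoverage (loc_coverMap hY A))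

/-- The action of `H` on the reduction. -/
def redAct : AlgGrp.Action H (redP A j) where
  act := pullback.lift (act A.act (fst H (redP A j) ≫ i) (snd H (redP A j) ≫ pullback.fst A.φ (j₀ j)))
    (act aZ (fst H (redP A j)) (snd H (redP A j) ≫ pullback.snd A.φ (j₀ j))) (by
      rw [act_φ, red_cond, act_j₀ hY])
  one_act := by
    apply AlgGrp.Action.hom_ext_lift₂
    intro T t x
    have ht : t ≫ η[H] = 1 := by rw [Hom.one_def, toUnit_unique (toUnit T) t]
    rw [lift_whiskerRight_assoc, leftUnitor_hom, lift_snd, ht]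
    apply pullback.hom_ext
    · rw [Category.assoc, pullback.lift_fst, comp_act, lift_fst_assoc, lift_snd_assoc, MonObj.one_comp, one_act]
    · rw [Category.assoc, pullback.lift_snd, comp_act, lift_fst, lift_snd_assoc, one_act]
  mul_act := by
    apply AlgGrp.Action.hom_ext_lift₃
    intro T h h' x
    rw [lift_whiskerRight_assoc, lift_lift_associator_hom_assoc, lift_whiskerLeft_assoc, ← Hom.mul_def]
    apply pullback.hom_ext
    · simp only [Category.assoc, pullback.lift_fst, comp_act, lift_fst_assoc, lift_snd_assoc, MonObj.mul_comp, mul_act]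
    · simp only [Category.assoc, pullback.lift_snd, comp_act, lift_fst, lift_snd_assoc, mul_act]

theorem red_act_fst {T : Over S} (h : T ⟶ H) (x : T ⟶ redP A j) :
    act (redAct hY A) h x ≫ pullback.fst A.φ (j₀ j) = act A.act (h ≫ i) (x ≫ pullback.fst A.φ (j₀ j)) := by
  simp only [act, redAct, Category.assoc, pullback.lift_fst]
  simp only [← Category.assoc, comp_lift, lift_fst, lift_snd]

theorem red_act_snd {T : Over S} (h : T ⟶ H) (x : T ⟶ redP A j) :
    act (redAct hY A) h x ≫ pullback.snd A.φ (j₀ j) = act aZ h (x ≫ pullback.snd A.φ (j₀ j)) := by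
  simp only [act, redAct, Category.assoc, pullback.lift_snd]
  simp only [← Category.assoc, comp_lift, lift_fst, lift_snd]

/-- The reduction of a torsor to `H`. -/
abbrev redObj : QuotObj Scheme.fppfPrecoverage H aZ where
  base := A.base
  P := redP A j
  act := redAct hY A
  π := pullback.fst A.φ (j₀ j) ≫ A.π
  cart := by
    refine isPullback_of_points ?_ fun T x y e => ?_
    · apply AlgGrp.Action.hom_ext_lift₂
      intro T h x
      rw [lift_snd_assoc, ← Category.assoc, ← Category.assoc x]
      change (act (redAct hY A) h x ≫ _) = _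
      rw [← Category.assoc, red_act_fst, act_π A.cart]
    · rw [← Category.assoc, ← Category.assoc] at e
      obtain ⟨g, hg, -⟩ := existsUnique_trans A.cart (y ≫ pullback.fst A.φ (j₀ j)) (x ≫ pullback.fst A.φ (j₀ j)) e
      obtain ⟨h, ⟨h1, h2⟩, -⟩ := existsUnique_pair_j₀ hY (g := g) (z := y ≫ pullback.snd A.φ (j₀ j))
        (z' := x ≫ pullback.snd A.φ (j₀ j)) (by rw [← red_cond, ← hg, act_φ, red_cond])
      refine ⟨lift h y, ⟨?_, lift_snd _ _⟩, ?_⟩
      · change act (redAct hY A) h y = x
        apply pullback.hom_ext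
        · rw [red_act_fst, h1, hg]
        · rw [red_act_snd, h2]
      · rintro k ⟨k1, k2⟩
        obtain ⟨h', y', rfl⟩ := exists_pair k
        obtain rfl : y' = y := by simpa using k2
        change act (redAct hY A) h' y' = x at k1
        congr 1
        refine (existsUnique_pair_j₀ hY (g := g) (z := y' ≫ pullback.snd A.φ (j₀ j))
          (z' := x ≫ pullback.snd A.φ (j₀ j)) (by rw [← red_cond, ← hg, act_φ, red_cond])).unique
          ⟨trans_unique A.cart (x := y' ≫ pullback.fst A.φ (j₀ j)) ?_, ?_⟩ ⟨h1, h2⟩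
        · rw [← red_act_fst hY, k1, hg]
        · rw [← red_act_snd hY, k1]
  loc := by
    refine (secSieve_mem_iff _).1 (GrothendieckTopology.transitive _ ((secSieve_mem_iff A.π).2 A.loc) _ ?_)
    rintro W g ⟨p, hp⟩
    refine GrothendieckTopology.superset_covering _ ?_
      (GrothendieckTopology.pullback_stable _ (p ≫ A.φ) ((secSieve_mem_iff j).2 hY.2.2))
    rintro V v ⟨gz, hgz⟩
    obtain ⟨g', z, rfl⟩ := exists_pair gz
    rw [pair_j hY] at hgz
    have hc : act A.act g'⁻¹ (v ≫ p) ≫ A.φ = z ≫ j₀ j := by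
      rw [act_φ, Category.assoc, ← hgz, act_inv_act]
    refine ⟨pullback.lift (act A.act g'⁻¹ (v ≫ p)) z hc, ?_⟩
    rw [pullback.lift_fst_assoc, act_π A.cart, Category.assoc, hp]
  φ := pullback.snd A.φ (j₀ j)
  eqv := pullback.lift_snd _ _ _ |>.trans (by simp only [act]; congr 1)

variable {A} in
/-- The reduction of a morphism of torsors. -/
abbrev redMap {B : QuotObj Scheme.fppfPrecoverage G aY} (m : A ⟶ B) : redObj hY A ⟶ redObj hY B where
  base := m.base
  top := pullback.lift (pullback.fst A.φ (j₀ j) ≫ m.top) (pullback.snd A.φ (j₀ j))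
    (by rw [Category.assoc, m.wφ, pullback.condition])
  eqv := by
    apply AlgGrp.Action.hom_ext_lift₂
    intro T h x
    rw [lift_whiskerLeft_assoc]
    change act (redAct hY A) h x ≫ _ = act (redAct hY B) h (x ≫ _)
    apply pullback.hom_ext
    · rw [Category.assoc, pullback.lift_fst, ← Category.assoc, red_act_fst, act_eqv _ _ m.eqv, red_act_fst]
      congr 1
      simp only [Category.assoc, pullback.lift_fst]
    · rw [Category.assoc, pullback.lift_snd, red_act_snd, red_act_snd]
      congr 1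
      simp only [Category.assoc, pullback.lift_snd]
  cart := by
    refine IsPullback.paste_vert ?_ m.cart
    refine (IsPullback.of_bot ?_ (pullback.lift_fst _ _ _).symm (IsPullback.of_hasPullback B.φ (j₀ j))).flip
    simp only [pullback.lift_snd, m.wφ]
    exact IsPullback.of_hasPullback A.φ (j₀ j)
  wφ := pullback.lift_snd _ _ _

omit A in
/-- Reduction to `H`, as a functor. -/
def redF : QuotSt Scheme.fppfPrecoverage G aY ⥤ᵇ QuotSt Scheme.fppfPrecoverage H aZ where
  toFunctor :=
    { obj := fun A => redObj hY A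
      map := fun m => redMap hY m
      map_id := fun A => QuotObj.hom_ext rfl (by
        apply pullback.hom_ext
        · simp [redMap]
        · simp [redMap])
      map_comp := fun m n => QuotObj.hom_ext rfl (by
        apply pullback.hom_ext
        · simp [redMap]
        · simp [redMap]) }
  w := rfl

instance : (redF hY).toFunctor.Faithful := ⟨fun {A B} m m' e => by
  have e' : redMap hY m = redMap hY m' := e
  have hb : m.base = m'.base := congrArg (fun t : redObj hY A ⟶ redObj hY B => t.base) e'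
  have ht := congrArg (· ≫ pullback.fst B.φ (j₀ j)) (congrArg (fun t : redObj hY A ⟶ redObj hY B => t.top) e')
  simp only [redF, redMap, pullback.lift_fst] at ht
  refine QuotObj.hom_ext hb ?_
  haveI := effectiveEpi_coverMap hY A
  refine TorsorDesc.cancel_of_effectiveEpi (coverMap A j) ?_
  rw [coverMap, Category.assoc, Category.assoc, m.eqv, m'.eqv, ← MonoidalCategory.whiskerLeft_comp_assoc,
    ← MonoidalCategory.whiskerLeft_comp_assoc, ht]⟩

theorem red_full {A B : QuotObj Scheme.fppfPrecoverage G aY} (n : redObj hY A ⟶ redObj hY B) :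
    ∃ m : A ⟶ B, redMap hY m = n := by
  let ψ : G ⊗ redP A j ⟶ B.P := (G ◁ n.top) ≫ coverMap B j
  have hn : n.top ≫ pullback.snd B.φ (j₀ j) = pullback.snd A.φ (j₀ j) := n.wφ
  have hψ : ∀ {T : Over S} (g : T ⟶ G) (x : T ⟶ redP A j),
      lift g x ≫ ψ = act B.act g ((x ≫ n.top) ≫ pullback.fst B.φ (j₀ j)) := by
    intro T g x
    simp only [ψ, lift_whiskerLeft_assoc, pair_coverMap]
  haveI := effectiveEpi_coverMap hY A
  obtain ⟨top, htop, -⟩ := TorsorDesc.existsUnique_desc (coverMap A j) ψ (fun T a b e => by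
    obtain ⟨g, x, rfl⟩ := exists_pair a
    obtain ⟨g', x', rfl⟩ := exists_pair b
    rw [pair_coverMap, pair_coverMap] at e
    have e2 := congrArg (· ≫ A.φ) e
    simp only [act_φ, red_cond, ← pair_j hY] at e2
    obtain ⟨h, ⟨h1, h2⟩, -⟩ := existsUnique_pair hY e2.symm
    have h3 : g' * (h ≫ i) = g := by rw [← h1, inv_mul_cancel_right]
    have hx : x' = act (redAct hY A) h x := by
      apply pullback.hom_ext
      · rw [red_act_fst, ← act_inv_act A.act g' (x' ≫ _), ← e, ← h3, mul_act, act_inv_act]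
      · rw [red_act_snd, h2]
    have hn' : x' ≫ n.top = act (redAct hY B) h (x ≫ n.top) := by
      rw [hx]
      exact act_eqv (redAct hY A) (redAct hY B) n.eqv h x
    rw [hψ, hψ, hn', red_act_fst, ← mul_act, h3])
  have htop' : ∀ {T : Over S} (g : T ⟶ G) (x : T ⟶ redP A j),
      act A.act g (x ≫ pullback.fst A.φ (j₀ j)) ≫ top = act B.act g ((x ≫ n.top) ≫ pullback.fst B.φ (j₀ j)) := by
    intro T g x
    rw [← pair_coverMap, Category.assoc, htop, hψ]
  have hπ : top ≫ B.π = A.π ≫ n.base := by
    refine TorsorDesc.cancel_of_effectiveEpi (coverMap A j) (AlgGrp.Action.hom_ext_lift₂ fun T g x => ?_)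
    have e : (x ≫ n.top) ≫ pullback.fst B.φ (j₀ j) ≫ B.π = x ≫ (pullback.fst A.φ (j₀ j) ≫ A.π) ≫ n.base := by
      rw [Category.assoc]; exact congrArg (x ≫ ·) n.cart.w
    rw [reassoc_of% htop, reassoc_of% (pair_coverMap A g x), ← Category.assoc, hψ, act_π B.cart]
    rw [Category.assoc, e]
    simp only [Category.assoc, A.cart.w_assoc, lift_snd_assoc]
  have hφ : top ≫ B.φ = A.φ := by
    refine TorsorDesc.cancel_of_effectiveEpi (coverMap A j) (AlgGrp.Action.hom_ext_lift₂ fun T g x => ?_)
    rw [reassoc_of% htop, ← Category.assoc, hψ, act_φ, red_cond, ← Category.assoc, pair_coverMap, act_φ, red_cond,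
      Category.assoc x, hn]
  have heqv : A.act.act ≫ top = (G ◁ top) ≫ B.act.act := by
    haveI := effectiveEpi_whisker_coverMap hY A
    refine TorsorDesc.cancel_of_effectiveEpi (G ◁ coverMap A j) (AlgGrp.Action.hom_ext_lift₂ fun T g gx => ?_)
    obtain ⟨g', x, rfl⟩ := exists_pair gx
    rw [lift_whiskerLeft_assoc, lift_whiskerLeft_assoc, lift_whiskerLeft_assoc, pair_coverMap, htop']
    change (lift g (act A.act g' _) ≫ A.act.act ≫ top) = act B.act g (act B.act g' _)
    rw [← Category.assoc]
    change act A.act g (act A.act g' _) ≫ top = _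
    rw [← mul_act, htop', mul_act]
  have hcart : IsPullback top A.π B.π n.base := by
    letI := GrothLib.SpQuot.grpYon G
    refine IsPullback.of_map_of_faithful (SpQuot.overYon S) ?_
    let C := SpQuot.compare G Y aY
    exact (SpQuot.mkHom (A := C.obj A) (A' := C.obj B) n.base (SpQuot.topSp_hom_ext _ _) ((SpQuot.overYon S).map top)
      (congrArg CommaMorphism.left (((SpQuot.overYon S).map_comp top B.π).symm.trans
        ((congrArg (SpQuot.overYon S).map hπ).trans ((SpQuot.overYon S).map_comp A.π n.base))))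
      (SpQuot.yonAct_eqv heqv) (by
        change (SpQuot.overYon S).map top ≫ (SpQuot.overYon S).map B.φ = (SpQuot.overYon S).map A.φ
        rw [← Functor.map_comp, hφ])).cart
  refine ⟨⟨n.base, top, heqv, hcart, hφ⟩, QuotObj.hom_ext rfl ?_⟩
  apply pullback.hom_ext
  · have e := htop' (1 : redP A j ⟶ G) (𝟙 _)
    rw [one_act, one_act, Category.id_comp, Category.id_comp] at e
    simp only [redMap, pullback.lift_fst, e]
  · simp only [redMap, pullback.lift_snd, hn]

instance : (redF hY).toFunctor.Full := ⟨fun {_ _} n => red_full hY n⟩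

omit A in
theorem locSurjObj_redF [IsAffineHom G.hom] [IsClosedImmersion i.left] :
    Gerb.LocSurjObj (QuotSh.J Scheme.fppfPrecoverage S) (redF hY) := by
  haveI : IsAffineHom H.hom := Over.w i ▸ inferInstance
  intro B
  refine ⟨secSieve B.π, (secSieve_mem_iff B.π).2 B.loc, fun W f hf => ?_⟩
  obtain ⟨s, hs⟩ := hf
  let z : W ⟶ Z := s ≫ B.φ
  let a : (ofSch Z).obj := ⟨W, ULift.up z⟩
  let a' : (ofSch Y).obj := ⟨W, ULift.up (z ≫ j₀ j)⟩
  let x := (quotMap Scheme.fppfPrecoverage G aY).obj a'
  have hc : QuotSt.unitSec W ≫ x.φ = z ≫ j₀ j := QuotSt.unitSec_whiskerLeft_act aY (z ≫ j₀ j)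
  let p : a.base ⟶ (redObj hY x).P := pullback.lift (QuotSt.unitSec W) z hc
  let m₁ := QuotSt.homOfPoint a (redObj hY x) p (pullback.lift_snd _ _ _)
  have hm₁ : m₁.base = 𝟙 W := by
    change p ≫ pullback.fst x.φ (j₀ j) ≫ x.π = _
    rw [pullback.lift_fst_assoc]
    exact lift_snd _ _
  have hg := (Groth.Agent.S12836.result S H Z aZ).1
  haveI : (QuotSt Scheme.fppfPrecoverage H aZ).p.IsHomLift (𝟙 W) m₁ :=
    IsHomLift.of_fac' _ _ _ rfl rfl (by
      change m₁.base = _
      rw [hm₁]; simp; rfl)
  haveI := FibCat.IsFibGrpd.isIso_of_isHomLift_id hg (R := W) m₁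
  let m₂ := QuotSt.homOfPoint a B s rfl
  refine ⟨x, inv m₁ ≫ m₂, ?_⟩
  haveI : (QuotSt Scheme.fppfPrecoverage H aZ).p.IsHomLift f m₂ :=
    IsHomLift.of_fac' _ _ _ rfl rfl (by
      change s ≫ B.π = _
      rw [hs]; simp)
  exact (inferInstance : (QuotSt Scheme.fppfPrecoverage H aZ).p.IsHomLift f (inv m₁ ≫ m₂))

omit A in
theorem isQuotientOf_balProd [IsAffineHom G.hom] [IsClosedImmersion i.left] :
    IsQuotientOf Scheme.fppfPrecoverage H aZ (QuotSt Scheme.fppfPrecoverage G aY) := by
  haveI : IsAffineHom H.hom := Over.w i ▸ inferInstance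
  obtain ⟨e, he, -, -⟩ := FibCat.IsEquivOver.symm (Stk.isEquivOver_of_locSurjObj (redF hY)
    (Groth.Agent.S12836.result S G Y aY) (Groth.Agent.S12836.result S H Z aZ) (locSurjObj_redF hY))
  exact ⟨e, he⟩

end GrothLib.BalQuot
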